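import Groth.Prelude.Def_EtCore
import Mathlib.CategoryTheory.Sites.SheafOfTypes

/-!
# The sheaf condition for Galois covers of the final object of the étale site
-/

universe w u

open CategoryTheory CategoryTheory.Limits AlgebraicGeometry Opposite

namespace Groth.Agent.EtGal24

variable {X : Scheme.{u}} {Y : X.Etale} {G : Type u} [Group G] (σ : G →* Aut Y) (P : X.Etaleᵒᵖ ⥤ Type w)

/-- Compatible sections over a Galois cover of the final object are the invariant ones. -/
lemma compatible_iff_invariant
    (hP : Function.Injective (fun s : P.obj (op (Y ⨯ Y)) => fun g : G => P.map (prod.lift (𝟙 Y) (σ g).hom).op s))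
    (s : P.obj (op Y)) :
    (∀ {Z : X.Etale} (p₁ p₂ : Z ⟶ Y), p₁ ≫ (EtCore.topIsTerminal X).from Y =
        p₂ ≫ (EtCore.topIsTerminal X).from Y → P.map p₁.op s = P.map p₂.op s) ↔
      ∀ g : G, P.map (σ g).hom.op s = s := by
  constructor
  · intro h g
    rw [h (σ g).hom (𝟙 Y) ((EtCore.topIsTerminal X).hom_ext _ _), op_id, Functor.map_id_apply]
  · intro h Z p₁ p₂ _
    have e : P.map (prod.fst : Y ⨯ Y ⟶ Y).op s = P.map (prod.snd : Y ⨯ Y ⟶ Y).op s := by
      refine hP (funext fun g => ?_)
      simp only [← Functor.map_comp_apply, ← op_comp, prod.lift_fst, prod.lift_snd, op_id, Functor.map_id_apply]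
      exact (h g).symm
    have := congrArg (P.map (prod.lift p₁ p₂).op) e
    simpa only [← Functor.map_comp_apply, ← op_comp, prod.lift_fst, prod.lift_snd] using this

/-- The sheaf condition along a Galois cover of the final object. -/
theorem isSheafFor_iff
    (hP : Function.Injective (fun s : P.obj (op (Y ⨯ Y)) => fun g : G => P.map (prod.lift (𝟙 Y) (σ g).hom).op s)) :
    Presieve.IsSheafFor P (Presieve.singleton ((EtCore.topIsTerminal X).from Y)) ↔
      (Function.Injective (P.map ((EtCore.topIsTerminal X).from Y).op) ∧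
        Set.range (P.map ((EtCore.topIsTerminal X).from Y).op) = {s | ∀ g : G, P.map (σ g).hom.op s = s}) := by
  have inv : ∀ t, ∀ g : G, P.map (σ g).hom.op (P.map ((EtCore.topIsTerminal X).from Y).op t) =
      P.map ((EtCore.topIsTerminal X).from Y).op t := fun t g => by
    rw [← Functor.map_comp_apply, ← op_comp]
    exact congrArg (fun m => P.map (Quiver.Hom.op m) t) ((EtCore.topIsTerminal X).hom_ext _ _)
  rw [Presieve.isSheafFor_singleton]
  constructor
  · intro h
    refine ⟨fun a b e => ?_, Set.ext fun s => ⟨?_, fun hs => ?_⟩⟩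
    · exact (h _ ((compatible_iff_invariant σ P hP _).2 (inv a))).unique rfl e.symm
    · rintro ⟨t, rfl⟩
      exact inv t
    · exact (h s ((compatible_iff_invariant σ P hP s).2 hs)).exists
  · intro ⟨hi, hr⟩ s hs
    obtain ⟨t, ht⟩ : s ∈ Set.range (P.map ((EtCore.topIsTerminal X).from Y).op) := by
      rw [hr]; exact (compatible_iff_invariant σ P hP s).1 hs
    exact ⟨t, ht, fun t' ht' => hi (ht'.trans ht.symm)⟩

end Groth.Agent.EtGal24
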