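import Groth.Agent.Lib.EtSite.Sheaf
import Groth.Agent.Lib.EtGal24.Basic

/-!
# Galois covers and étale sheaves
-/

universe w v u

open CategoryTheory CategoryTheory.Limits AlgebraicGeometry Opposite
open Groth.Agent

namespace Groth.Agent.EtGal24

variable {X : Scheme.{u}}

set_option backward.isDefEq.respectTransparency.types false in
/-- A colimit cofan in the small étale site is a covering. -/
theorem cofan_mem {κ : Type v} {Z : κ → X.Etale} {V : X.Etale} (ι : ∀ k, Z k ⟶ V)
    (hV : IsColimit (Cofan.mk V ι)) :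
    Sieve.generate (Presieve.ofArrows Z ι) ∈ X.smallEtaleTopology V := by
  have ho : ∀ k, IsOpen (Set.range (ι k).left) := fun k => by
    have : AlgebraicGeometry.Etale ((ι k).left ≫ V.hom) := by
      rw [MorphismProperty.Over.w (ι k)]; exact (Z k).prop
    have : AlgebraicGeometry.Etale V.hom := V.prop
    have : AlgebraicGeometry.Etale (ι k).left := Etale.of_comp (ι k).left V.hom
    exact (ι k).left.isOpenMap.isOpen_range
  let W : V.left.Opens := ⟨⋃ k, Set.range (ι k).left, isOpen_iUnion ho⟩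
  have hsub : ∀ k, Set.range (ι k).left ⊆ Set.range W.ι := fun k => by
    rintro _ ⟨z, rfl⟩
    exact ⟨⟨(ι k).left z, Set.mem_iUnion.2 ⟨k, z, rfl⟩⟩, rfl⟩
  have : IsOpenImmersion W.ι := Scheme.Opens.instIsOpenImmersionι W
  let l : ∀ k, (Z k).left ⟶ (W : Scheme.{u}) := fun k =>
    @IsOpenImmersion.lift _ _ _ W.ι (ι k).left this (hsub k)
  have hl : ∀ k, l k ≫ W.ι = (ι k).left := fun k =>
    @IsOpenImmersion.lift_fac _ _ _ W.ι (ι k).left this (hsub k)
  let a : ∀ k, Z k ⟶ EtSite.sub V W := fun k =>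
    MorphismProperty.Over.homMk (l k) (by
      show l k ≫ W.ι ≫ V.hom = (Z k).hom
      exact (Category.assoc _ _ _).symm.trans
        ((congrArg (· ≫ V.hom) (hl k)).trans (MorphismProperty.Over.w (ι k))))
  let r : V ⟶ EtSite.sub V W := Cofan.IsColimit.desc hV a
  have hr : r ≫ EtSite.subHom V W = 𝟙 V := Cofan.IsColimit.hom_ext hV _ _ fun k => by
    have hk : ι k ≫ r = a k := Cofan.IsColimit.fac hV a k
    show ι k ≫ r ≫ EtSite.subHom V W = ι k ≫ 𝟙 V
    rw [reassoc_of% hk, Category.comp_id]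
    exact MorphismProperty.Over.Hom.ext (by
      show (a k).left ≫ (EtSite.subHom V W).left = (ι k).left
      exact hl k)
  rw [EtSite.mem_et_iff]
  intro x
  have hx : W.ι (r.left x) = x := congrArg (fun m : V ⟶ V => m.left x) hr
  have hmem : x ∈ W := hx ▸ (r.left x).2
  obtain ⟨k, z, hz⟩ := Set.mem_iUnion.1 hmem
  exact ⟨Z k, ι k, z, Sieve.le_generate _ _ _ (Presieve.ofArrows.mk k), hz⟩

variable {Y : X.Etale} {G : Type u} [Group G] (σ : G →* Aut Y)

/-- Galois descent for global sections. -/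
theorem sect_top (hY : Function.Surjective Y.hom.base)
    (hgal : Nonempty (IsColimit (Cofan.mk (Y ⨯ Y) (fun g : G => prod.lift (𝟙 Y) (σ g).hom))))
    (P : X.Etaleᵒᵖ ⥤ Type w) (hP : Presieve.IsSheaf X.smallEtaleTopology P) :
    (Function.Injective (P.map ((EtCore.topIsTerminal X).from Y).op) ∧
        Set.range (P.map ((EtCore.topIsTerminal X).from Y).op) = {s | ∀ g : G, P.map (σ g).hom.op s = s}) := by
  refine (isSheafFor_iff σ P ?_).1 ?_
  · intro s t h
    refine ((Presieve.isSheafFor_iff_generate _).2 (hP _ (cofan_mem _ hgal.some))).isSeparatedFor.ext ?_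
    rintro Z f ⟨g⟩
    exact congrFun h g
  · refine (Presieve.isSheafFor_iff_generate _).2 (hP _ ?_)
    rw [EtSite.mem_et_iff]
    intro x
    obtain ⟨y, hy⟩ := hY x
    refine ⟨Y, (EtCore.topIsTerminal X).from Y, y, Sieve.le_generate _ _ _ (Presieve.singleton_self _), ?_⟩
    have h : ((EtCore.topIsTerminal X).from Y).left ≫ (EtCoh.top X).hom = Y.hom :=
      MorphismProperty.Over.w _
    rw [← hy]
    exact congrArg (fun m : Y.left ⟶ X => m y) h

end Groth.Agent.EtGal24
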